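import Groth.Prelude.Def_CohDer
import Groth.Agent.L10.HomotopyProd
import Groth.Agent.L10.KInjTransfer
import Groth.Agent.L10.ClassRes
import Groth.Agent.L17.AcyclicMap
import Mathlib.Algebra.Homology.HomotopyCategory.HomComplexSingle
import Mathlib.Algebra.Homology.HomotopyCategory.KInjective
import Mathlib.Algebra.Homology.DerivedCategory.Ext.ExactSequences
import Mathlib.Algebra.Homology.DerivedCategory.Ext.EnoughInjectives
import Mathlib.CategoryTheory.Abelian.GrothendieckCategory.EnoughInjectives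
import Mathlib.Algebra.Category.Grp.EpiMono
import Mathlib.Algebra.Category.Grp.Zero
import Mathlib.GroupTheory.QuotientGroup.Basic

/-! # Maps from an object with sum-preserving Ext groups into sums in the derived category -/

universe w v u

open CategoryTheory CategoryTheory.Limits CategoryTheory.Abelian CochainComplex HomComplex Opposite

set_option backward.defeqAttrib.useBackward true
set_option backward.isDefEq.respectTransparency false
set_option backward.isDefEq.respectTransparency.types false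
set_option linter.style.haveILetI false

namespace Groth.L10.HomSum

variable {A : Type u} [Category.{v} A] [Abelian A] (Q : A)

/-- The short exact sequence of cycles of an acyclic complex. -/
theorem cycles_shortExact {K : CochainComplex A ℤ} (hK : K.Acyclic) (i : ℤ) :
    ∃ w : K.iCycles i ≫ K.toCycles i (i + 1) = 0,
      (ShortComplex.mk (K.iCycles i) (K.toCycles i (i + 1)) w).ShortExact := by
  have w : K.iCycles i ≫ K.toCycles i (i + 1) = 0 := by rw [← cancel_mono (K.iCycles (i + 1))]; simp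
  have hz : K.homologyπ (i + 1) = 0 :=
    ((K.exactAt_iff_isZero_homology (i + 1)).1 (hK (i + 1))).eq_of_tgt _ _
  have he : Epi (K.toCycles i (i + 1)) := (ShortComplex.exact_of_g_is_cokernel (ShortComplex.mk _ _
    (K.toCycles_comp_homologyπ i (i + 1))) (K.homologyIsCokernel i (i + 1) (by simp))).epi_f hz
  refine ⟨w, { exact := ?_, mono_f := inferInstance, epi_g := he }⟩
  rw [ShortComplex.exact_iff_exact_up_to_refinements]
  intro P x hx
  change x ≫ K.toCycles i (i + 1) = 0 at hx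
  refine ⟨P, 𝟙 P, inferInstance, K.liftCycles x (i + 1) (by simp) ?_, ?_⟩
  · rw [← K.toCycles_i i (i + 1), ← Category.assoc]
    exact (congrArg (fun e => e ≫ K.iCycles (i + 1)) hx).trans zero_comp
  · simp

variable [HasExt.{v} A]

/-- Objects without higher Ext from `Q`. -/
def Acy : ObjectProperty A := fun X => ∀ p : ℕ, Subsingleton (Ext Q X (p + 1))

theorem acy_of_iso {X Y : A} (e : X ≅ Y) (h : Acy Q X) : Acy Q Y := fun p =>
  haveI : Subsingleton ↑((extFunctorObj Q (p + 1)).obj X) := h p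
  ((extFunctorObj Q (p + 1)).mapIso e).addCommGroupIsoToAddEquiv.symm.toEquiv.subsingleton

theorem acy_biprod {X Y : A} (hX : Acy Q X) (hY : Acy Q Y) : Acy Q (X ⊞ Y) := fun p =>
  subsingleton_of_forall_eq 0 fun x => by
  rw [← Ext.comp_mk₀_id x, ← biprod.total, Ext.mk₀_add, Ext.comp_add,
    ← Ext.mk₀_comp_mk₀, ← Ext.mk₀_comp_mk₀, ← Ext.comp_assoc_of_third_deg_zero, ← Ext.comp_assoc_of_third_deg_zero,
    @Subsingleton.elim _ (hX p) (x.comp (Ext.mk₀ biprod.fst) (add_zero _)) 0,
    @Subsingleton.elim _ (hY p) (x.comp (Ext.mk₀ biprod.snd) (add_zero _)) 0, Ext.zero_comp, Ext.zero_comp, add_zero]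

theorem acy_injective (X : A) [Injective X] : Acy Q X := fun _ =>
  subsingleton_of_forall_eq 0 fun x => Ext.eq_zero_of_injective x

theorem acy_coproduct {ι : Type v} (hsum : ∀ p : ℕ, PreservesColimitsOfShape (Discrete ι) (extFunctorObj Q p))
    (c : ι → A) [HasCoproduct c] (hc : ∀ i, Acy Q (c i)) : Acy Q (∐ c) := fun p => by
  haveI := hsum (p + 1)
  exact AddCommGrpCat.subsingleton_of_isZero (IsColimit.isZero_pt
    (isColimitOfHasCoproductOfPreservesColimit (extFunctorObj Q (p + 1)) c)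
    (Functor.isZero _ fun i => @AddCommGrpCat.isZero_of_subsingleton _ (hc i.as p)))

/-- Cocycles are coboundaries. -/
def CycExact (K : CochainComplex A ℤ) : Prop :=
  ∀ (i : ℤ) (g : Q ⟶ K.X (i + 1)), g ≫ K.d (i + 1) (i + 1 + 1) = 0 → ∃ h : Q ⟶ K.X i, h ≫ K.d i (i + 1) = g

theorem cycExact_of_ext_cycles {K : CochainComplex A ℤ} (hK : K.Acyclic)
    (h1 : ∀ i, Subsingleton (Ext Q (K.cycles i) 1)) : CycExact Q K := fun i g hg => by
  obtain ⟨w, hT⟩ := cycles_shortExact hK i
  let y := K.liftCycles g (i + 1 + 1) (by simp) hg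
  obtain ⟨z', hz'⟩ := Ext.covariant_sequence_exact₃ Q hT (Ext.mk₀ y) (zero_add 1)
    (@Subsingleton.elim _ (h1 i) _ _)
  obtain ⟨z, rfl⟩ := (Ext.mk₀_bijective Q (K.X i)).2 z'
  have hzy : z ≫ K.toCycles i (i + 1) = y :=
    (Ext.mk₀_bijective _ _).1 ((Ext.mk₀_comp_mk₀ _ _).symm.trans hz')
  exact ⟨z, by rw [← K.toCycles_i i (i + 1), ← Category.assoc, hzy, K.liftCycles_i]⟩

theorem ext_cycles_step {K : CochainComplex A ℤ} (hK : K.Acyclic) (hA : ∀ n, Acy Q (K.X n)) (i : ℤ) (j : ℕ)
    (h : Subsingleton (Ext Q (K.cycles i) (j + 2))) : Subsingleton (Ext Q (K.cycles (i + 1)) (j + 1)) := by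
  obtain ⟨w, hT⟩ := cycles_shortExact hK i
  refine subsingleton_of_forall_eq 0 fun x => ?_
  obtain ⟨y, hy⟩ := Ext.covariant_sequence_exact₃ Q hT x rfl (@Subsingleton.elim _ h _ _)
  rw [← hy, @Subsingleton.elim _ (hA i j) y 0, Ext.zero_comp]

theorem cycExact_bounded {K : CochainComplex A ℤ} (hK : K.Acyclic) (hA : ∀ n, Acy Q (K.X n)) (a : ℤ)
    [K.IsStrictlyGE a] : CycExact Q K := by
  have h : ∀ (k : ℕ) (i : ℤ), i < a + k → ∀ j : ℕ, Subsingleton (Ext Q (K.cycles i) (j + 1)) := by
    intro k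
    induction k with
    | zero =>
      intro i hi j
      have hz : IsZero (K.cycles i) :=
        IsZero.of_mono (K.iCycles i) (K.isZero_of_isStrictlyGE a i (by omega))
      refine subsingleton_of_forall_eq 0 fun x => ?_
      rw [← Ext.comp_mk₀_id x, hz.eq_of_src (𝟙 _) 0, Ext.mk₀_zero, Ext.comp_zero]
    | succ k ih =>
      intro i hi j
      obtain ⟨i, rfl⟩ : ∃ i', i = i' + 1 := ⟨i - 1, by omega⟩
      exact ext_cycles_step Q hK hA i j (ih i (by omega) (j + 1))
  exact cycExact_of_ext_cycles Q hK fun i => h (i - a + 1).toNat i (by omega) 0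

theorem cycExact_dim {K : CochainComplex A ℤ} (hK : K.Acyclic) (hA : ∀ n, Acy Q (K.X n)) (d : ℕ)
    (hd : ∀ (X : A) (p : ℕ), d < p → Subsingleton (Ext Q X p)) : CycExact Q K := by
  have h : ∀ (k j : ℕ) (i : ℤ), d ≤ j + k → Subsingleton (Ext Q (K.cycles i) (j + 1)) := by
    intro k
    induction k with
    | zero => exact fun j i hj => hd _ _ (by omega)
    | succ k ih =>
      intro j i hj
      obtain ⟨i, rfl⟩ : ∃ i', i = i' + 1 := ⟨i - 1, by omega⟩
      exact ext_cycles_step Q hK hA i j (ih (j + 1) i (by omega))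
  exact cycExact_of_ext_cycles Q hK fun i => h d 0 i (by omega)

omit [HasExt.{v} A] in
/-- Postcomposition with a map with exact cone lifts maps from `Q` in degree zero up to homotopy. -/
theorem exists_lift {L J : CochainComplex A ℤ} (s : L ⟶ J) (hC : CycExact Q (mappingCone s))
    (g : (singleFunctor A 0).obj Q ⟶ J) :
    ∃ φ : (singleFunctor A 0).obj Q ⟶ L, Nonempty (Homotopy (φ ≫ s) g) := by
  let g0 : Q ⟶ J.X 0 := (HomologicalComplex.singleObjXSelf (ComplexShape.up ℤ) 0 Q).inv ≫ g.f 0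
  have hg0 : g0 ≫ J.d 0 1 = 0 := by simp [g0, g.comm]
  let c : Q ⟶ (mappingCone s).X ((-1 : ℤ) + 1) := g0 ≫ (mappingCone.inr s).f 0
  obtain ⟨h, hh⟩ := hC (-1) c (by
    show (g0 ≫ (mappingCone.inr s).f 0) ≫ (mappingCone s).d 0 1 = 0
    rw [Category.assoc, (mappingCone.inr s).comm 0 1, ← Category.assoc, hg0, zero_comp])
  replace hh : h ≫ (mappingCone s).d (-1) 0 = g0 ≫ (mappingCone.inr s).f 0 := hh
  let φ0 : Q ⟶ L.X 0 := h ≫ (mappingCone.fst s).1.v (-1) 0 (by omega)
  let e : Q ⟶ J.X (-1) := h ≫ (mappingCone.snd s).v (-1) (-1) (add_zero _)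
  have h1 : φ0 ≫ L.d 0 1 = 0 := by
    have := congrArg (· ≫ (mappingCone.fst s).1.v 0 1 rfl) hh
    simp only [Category.assoc] at this
    rw [mappingCone.d_fst_v s (-1) 0 1 (by omega) (by omega)] at this
    simpa [φ0] using this
  have h2 : φ0 ≫ s.f 0 + e ≫ J.d (-1) 0 = g0 := by
    have := congrArg (· ≫ (mappingCone.snd s).v 0 0 (add_zero _)) hh
    simp only [Category.assoc] at this
    rw [mappingCone.d_snd_v s (-1) 0 (by omega)] at this
    simpa [φ0, e] using this
  let φ : (singleFunctor A 0).obj Q ⟶ L := HomologicalComplex.mkHomFromSingle φ0 (fun j hj => by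
    obtain rfl : j = 1 := by simpa using hj.symm
    exact h1)
  refine ⟨φ, ⟨(Cochain.equivHomotopy (φ ≫ s) g).symm ⟨Cochain.fromSingleMk (-e) (zero_add (-1 : ℤ)), ?_⟩⟩⟩
  rw [Cochain.δ_fromSingleMk _ (zero_add (-1 : ℤ)) 0 0 rfl]
  refine Cochain.ext₀ _ _ fun p => ?_
  by_cases hp : p = 0
  · subst hp
    simp [φ]
    have h3 : (HomologicalComplex.singleObjXSelf (ComplexShape.up ℤ) 0 Q).hom ≫ φ0 ≫ s.f 0 +
        (HomologicalComplex.singleObjXSelf (ComplexShape.up ℤ) 0 Q).hom ≫ e ≫ J.d (-1) 0 = g.f 0 := by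
      rw [← Preadditive.comp_add, h2]
      simp [g0]
    exact eq_neg_add_iff_add_eq.2 ((add_comm _ _).trans h3)
  · exact (HomologicalComplex.isZero_single_obj_X (ComplexShape.up ℤ) 0 Q p hp).eq_of_src _ _

end Groth.L10.HomSum
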