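import Groth.Agent.L10.HomSum.Basic
import Mathlib.Algebra.Homology.DerivedCategory.TStructure
import Mathlib.Algebra.Homology.DerivedCategory.SingleTriangle

/-! # Compactness of an object with sum-preserving Ext groups -/

universe v u

open CategoryTheory CategoryTheory.Limits CategoryTheory.Abelian CochainComplex Opposite ZeroObject

set_option backward.defeqAttrib.useBackward true
set_option backward.isDefEq.respectTransparency false
set_option backward.isDefEq.respectTransparency.types false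
set_option linter.style.haveILetI false

namespace Groth.L10.HomSum

variable {A : Type u} [Category.{v} A] [Abelian A] [HasExt.{v} A] (Q : A) {ι : Type v}

/-- A map from `Q` into a sum only meets finitely many summands. -/
theorem exists_finset [DecidableEq ι] (hsum : PreservesColimitsOfShape (Discrete ι) (extFunctorObj Q 0)) (c : ι → A)
    [HasCoproduct c] (π : ∀ i, (∐ c) ⟶ c i) (hπ : ∀ i, Sigma.ι c i ≫ π i = 𝟙 _)
    (hπ' : ∀ i j, i ≠ j → Sigma.ι c i ≫ π j = 0) (g : Q ⟶ ∐ c) :
    ∃ S : Finset ι, g = ∑ i ∈ S, g ≫ π i ≫ Sigma.ι c i := by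
  haveI := hsum
  let E := extFunctorObj Q 0
  have hE : IsColimit (Cofan.mk (E.obj (∐ c)) fun i => E.map (Sigma.ι c i)) :=
    isColimitOfHasCoproductOfPreservesColimit E c
  let P : (Q ⟶ ∐ c) → Prop := fun g => ∃ S : Finset ι, g = ∑ i ∈ S, g ≫ π i ≫ Sigma.ι c i
  have hPz : ∀ (S : Finset ι) (g : Q ⟶ ∐ c), g = ∑ i ∈ S, g ≫ π i ≫ Sigma.ι c i → ∀ j ∉ S, g ≫ π j = 0 := by
    intro S g hg j hj
    rw [hg, Preadditive.sum_comp]
    refine Finset.sum_eq_zero fun i hi => ?_
    rw [Category.assoc, Category.assoc, hπ' i j (fun h => hj (h ▸ hi)), comp_zero, comp_zero]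
  have hmono : ∀ (S T : Finset ι) (g : Q ⟶ ∐ c), S ⊆ T → g = ∑ i ∈ S, g ≫ π i ≫ Sigma.ι c i →
      g = ∑ i ∈ T, g ≫ π i ≫ Sigma.ι c i := fun S T g hST hg =>
    hg.trans (Finset.sum_subset hST fun i _ hi => by rw [← Category.assoc, hPz S g hg i hi, zero_comp])
  let H : AddSubgroup (Ext Q (∐ c) 0) :=
    { carrier := {x | P (Ext.addEquiv₀ x)}
      zero_mem' := ⟨∅, by simp⟩
      add_mem' := fun {x y} ⟨S, hS⟩ ⟨T, hT⟩ => ⟨S ∪ T, by
        rw [map_add]
        simp only [Preadditive.add_comp, Finset.sum_add_distrib]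
        exact congrArg₂ (· + ·) (hmono S (S ∪ T) _ Finset.subset_union_left hS)
          (hmono T (S ∪ T) _ Finset.subset_union_right hT)⟩
      neg_mem' := fun {x} ⟨S, hS⟩ => ⟨S, by
        rw [map_neg]
        simp only [Preadditive.neg_comp, Finset.sum_neg_distrib]
        exact congrArg Neg.neg hS⟩ }
  have hHι : ∀ (i : ι) (y : Ext Q (c i) 0), E.map (Sigma.ι c i) y ∈ H := fun i y => by
    obtain ⟨φ, rfl⟩ := (Ext.mk₀_bijective Q (c i)).2 y
    have : Ext.addEquiv₀ (E.map (Sigma.ι c i) (Ext.mk₀ φ)) = φ ≫ Sigma.ι c i := by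
      apply (Ext.mk₀_bijective Q (∐ c)).1
      refine (Ext.mk₀_homEquiv₀_apply _).trans ?_
      exact Ext.mk₀_comp_mk₀ _ _
    exact ⟨{i}, by rw [this, Finset.sum_singleton]; simp [reassoc_of% hπ i]⟩
  have hq : AddCommGrpCat.ofHom (QuotientAddGroup.mk' H) = 0 := by
    refine Cofan.IsColimit.hom_ext hE _ _ fun i => AddCommGrpCat.hom_ext (AddMonoidHom.ext fun y => ?_)
    exact (QuotientAddGroup.eq_zero_iff _).2 (hHι i y)
  have hmem : Ext.mk₀ g ∈ H := (QuotientAddGroup.eq_zero_iff _).1 congr($hq (Ext.mk₀ g))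
  obtain ⟨S, hS⟩ := hmem
  have : Ext.addEquiv₀ (Ext.mk₀ g) = g := (Ext.mk₀_bijective _ _).1 (Ext.mk₀_homEquiv₀_apply _)
  rw [this] at hS
  exact ⟨S, hS⟩

variable [HasDerivedCategory.{v} A] [IsGrothendieckAbelian.{v} A]

/-- The comparison is bijective for families admitting adapted resolutions. -/
theorem bijective_of_resolution (hsum : PreservesColimitsOfShape (Discrete ι) (extFunctorObj Q 0))
    (M : ι → DerivedCategory A) [HasCoproduct M] (I : ι → CochainComplex A ℤ) [∀ i, (I i).IsKInjective]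
    (e : ∀ i, DerivedCategory.Q.obj (I i) ≅ M i) [HasCoproductsOfShape ι A] {J : CochainComplex A ℤ}
    (s : ∐ I ⟶ J) [QuasiIso s] [J.IsKInjective] (hC : CycExact Q (mappingCone s)) :
    Function.Bijective (CohDer.homSumToHomCoprod ((DerivedCategory.singleFunctor A 0).obj Q) M) := by
  classical
  let π : ∀ j, (∐ M) ⟶ M j := fun j => Sigma.desc fun i => if h : i = j then eqToHom (by rw [h]) else 0
  have hhom : ∀ (i : ι) (g : (DerivedCategory.singleFunctor A 0).obj Q ⟶ M i),
      CohDer.homSumToHomCoprod _ M (DirectSum.of _ i g) = g ≫ Sigma.ι M i := fun i g => by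
    simp only [CohDer.homSumToHomCoprod]
    rw [DirectSum.toAddMonoid_of]
    rfl
  refine ⟨fun x y hxy => DFinsupp.ext fun j => ?_, fun f => ?_⟩
  · have key : ∀ x, CohDer.homSumToHomCoprod ((DerivedCategory.singleFunctor A 0).obj Q) M x ≫ π j = x j := by
      intro x
      induction x using DirectSum.induction_on with
      | zero => simp
      | of i g =>
        rw [hhom, Category.assoc]
        by_cases h : i = j
        · subst h
          simp [π]
        · simp [π, h, DirectSum.of_eq_of_ne _ _ _ (Ne.symm h)]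
      | add x y hx hy => rw [map_add, Preadditive.add_comp, hx, hy, DirectSum.add_apply]
    rw [← key x, ← key y, hxy]
  · let Qf : CochainComplex A ℤ ⥤ DerivedCategory A := DerivedCategory.Q
    have hb : ∀ Y : DerivedCategory A, Function.Bijective fun (g : Qf.obj (∐ I) ⟶ Y) i => Qf.map (Sigma.ι I i) ≫ g :=
      fun Y => DerivedProd.hom_from_coproduct_bijective I Y
    obtain ⟨θ, hθ⟩ := (hb (∐ M)).surjective fun i => (e i).hom ≫ Sigma.ι M i
    let θ' : (∐ M) ⟶ Qf.obj (∐ I) := Sigma.desc fun i => (e i).inv ≫ Qf.map (Sigma.ι I i)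
    have hθθ : θ' ≫ θ = 𝟙 _ := Sigma.hom_ext _ _ fun i => by
      rw [← Category.assoc, Sigma.ι_desc, Category.assoc]
      refine (congrArg ((e i).inv ≫ ·) (congrFun hθ i)).trans ?_
      rw [Iso.inv_hom_id_assoc, Category.comp_id]
    haveI : IsIso (Qf.map s) := (DerivedCategory.isIso_Q_map_iff_quasiIso (C := A) _).2 ‹_›
    let f₀ : Qf.obj ((singleFunctor A 0).obj Q) ⟶ ∐ M := f
    let f' : Qf.obj ((singleFunctor A 0).obj Q) ⟶ Qf.obj (∐ I) := f₀ ≫ θ'
    obtain ⟨g', hg'⟩ := (CochainComplex.IsKInjective.Qh_map_bijective _ J).surjective (f' ≫ Qf.map s)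
    obtain ⟨g, rfl⟩ := (HomotopyCategory.quotient A (ComplexShape.up ℤ)).map_surjective g'
    obtain ⟨φ, ⟨hφ⟩⟩ := exists_lift Q s hC g
    have hf' : f' = Qf.map φ := by
      rw [← cancel_mono (Qf.map s), ← hg', ← Qf.map_comp]
      exact congrArg DerivedCategory.Qh.map (HomotopyCategory.eq_of_homotopy _ _ hφ).symm
    let pr : ∀ j, (∐ I) ⟶ I j := fun j => Sigma.desc fun i => if h : i = j then eqToHom (by rw [h]) else 0
    haveI : HasCoproduct fun i => (I i).X 0 := inferInstance
    let σ := PreservesCoproduct.iso (HomologicalComplex.eval A (ComplexShape.up ℤ) 0) I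
    have hσ : ∀ i, Sigma.ι (fun i => (I i).X 0) i ≫ σ.inv = (Sigma.ι I i).f 0 := fun i => by
      rw [PreservesCoproduct.inv_hom]
      exact ι_comp_sigmaComparison (HomologicalComplex.eval A (ComplexShape.up ℤ) 0) I i
    have hpr : ∀ i j, (Sigma.ι I i).f 0 ≫ (pr j).f 0 = (if h : i = j then eqToHom (by rw [h]) else 0) := by
      intro i j
      rw [← HomologicalComplex.comp_f, Sigma.ι_desc]
      by_cases h : i = j
      · subst h; simp
      · simp [h]
    obtain ⟨T, hT⟩ := exists_finset Q hsum (fun i => (I i).X 0) (fun j => σ.inv ≫ (pr j).f 0)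
      (fun i => by rw [← Category.assoc, hσ, hpr]; simp) (fun i j h => by rw [← Category.assoc, hσ, hpr]; simp [h])
      (((HomologicalComplex.singleObjXSelf (ComplexShape.up ℤ) 0 Q).inv ≫ φ.f 0) ≫ σ.hom)
    have hφsum : φ = ∑ i ∈ T, φ ≫ pr i ≫ Sigma.ι I i := by
      refine HomologicalComplex.from_single_hom_ext ?_
      rw [← cancel_epi (HomologicalComplex.singleObjXSelf (ComplexShape.up ℤ) 0 Q).inv]
      have := congrArg (· ≫ σ.inv) hT
      simp only [Category.assoc, Iso.hom_inv_id, Category.comp_id, Iso.hom_inv_id_assoc, Preadditive.sum_comp, hσ] at this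
      refine this.trans ?_
      rw [← Preadditive.comp_sum]
      congr 1
      exact ((HomologicalComplex.eval A (ComplexShape.up ℤ) 0).map_sum (fun i => φ ≫ pr i ≫ Sigma.ι I i) T).symm
    refine ⟨∑ i ∈ T, DirectSum.of _ i (Qf.map (φ ≫ pr i) ≫ (e i).hom : Qf.obj ((singleFunctor A 0).obj Q) ⟶ M i), ?_⟩
    rw [map_sum]
    simp only [hhom, Category.assoc]
    show _ = f₀
    have hfin : f₀ = Qf.map φ ≫ θ := by
      rw [← hf']
      simp [f', hθθ]
    rw [hfin]
    conv_rhs => rw [hφsum]
    rw [Functor.map_sum, Preadditive.sum_comp]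
    refine Finset.sum_congr rfl fun i _ => ?_
    simp only [Functor.map_comp, Category.assoc]
    exact congrArg (fun z => Qf.map φ ≫ Qf.map (pr i) ≫ z) (congrFun hθ i).symm

/-- Uniformly bounded below families. -/
theorem bijective_of_isGE (hsum : ∀ p : ℕ, PreservesColimitsOfShape (Discrete ι) (extFunctorObj Q p))
    (M : ι → DerivedCategory A) [HasCoproduct M] (a : ℤ) (hM : ∀ i, (M i).IsGE a) :
    Function.Bijective (CohDer.homSumToHomCoprod ((DerivedCategory.singleFunctor A 0).obj Q) M) := by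
  have h : ∀ i, ∃ (I : CochainComplex A ℤ) (_ : DerivedCategory.Q.obj I ≅ M i),
      I.IsStrictlyGE a ∧ I.IsKInjective ∧ ∀ n, Injective (I.X n) := fun i => by
    haveI := hM i
    obtain ⟨K, hK, ⟨eK⟩⟩ := DerivedCategory.exists_iso_Q_obj_of_isGE (M i) a
    haveI := hK
    obtain ⟨I, s, hI, hinj, -, hs⟩ := ClassRes.exists_res (fun X : A => Injective X)
      (fun X => ⟨Injective.under X, Injective.ι X, inferInstance, inferInstance⟩)
      ⟨0, isZero_zero A, (isZero_zero A).injective⟩ K a
    haveI := hI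
    haveI := hinj
    haveI := hs
    haveI : IsIso (DerivedCategory.Q.map s) := (DerivedCategory.isIso_Q_map_iff_quasiIso (C := A) _).2 hs
    exact ⟨I, (asIso (DerivedCategory.Q.map s)).symm ≪≫ eK.symm, hI,
      CochainComplex.isKInjective_of_injective I a, hinj⟩
  choose I e hI hK hinj using h
  haveI := hK
  haveI hGE : (∐ I).IsStrictlyGE a := (CochainComplex.isStrictlyGE_iff _ _).2 fun n hn =>
    IsColimit.isZero_pt (isColimitOfHasCoproductOfPreservesColimit (HomologicalComplex.eval A (ComplexShape.up ℤ) n) I)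
      (Functor.isZero _ fun i => (I i.as).isZero_of_isStrictlyGE a n hn)
  have hacy : ∀ n, Acy Q ((∐ I).X n) := fun n =>
    acy_of_iso Q (PreservesCoproduct.iso (HomologicalComplex.eval A (ComplexShape.up ℤ) n) I).symm
      (acy_coproduct Q hsum (fun i => (I i).X n) fun i => haveI := hinj i n; acy_injective Q _)
  obtain ⟨J, s, hJ, hJinj, -, hs⟩ := ClassRes.exists_res (fun X : A => Injective X)
    (fun X => ⟨Injective.under X, Injective.ι X, inferInstance, inferInstance⟩)
    ⟨0, isZero_zero A, (isZero_zero A).injective⟩ (∐ I) a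
  haveI := hJ
  haveI := hJinj
  haveI := hs
  haveI : J.IsKInjective := CochainComplex.isKInjective_of_injective J a
  haveI : (mappingCone s).IsStrictlyGE (a - 1) :=
    CochainComplex.isStrictlyGE_mappingCone s a a _ (by omega) (by omega)
  refine bijective_of_resolution Q (hsum 0) M I e s (cycExact_bounded Q ((L17.GrothSS.quasiIso_iff_cone s).1 hs) ?_ (a - 1))
  exact fun n => acy_of_iso Q (HomologicalComplex.homotopyCofiber.XIsoBiprod s n (n + 1) rfl).symm
    (acy_biprod Q (hacy _) (acy_injective Q _))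

/-- Finite dimension. -/
theorem isCompactObject [HasCoproducts.{v} (DerivedCategory A)]
    (hsum : ∀ (p : ℕ) (ι : Type v), PreservesColimitsOfShape (Discrete ι) (extFunctorObj Q p))
    (d : ℕ) (hd : ∀ (X : A) (p : ℕ), d < p → Subsingleton (Ext Q X p)) :
    CohDer.IsCompactObject ((DerivedCategory.singleFunctor A 0).obj Q) := fun ι M => by
  choose I s hK hs hinj using fun i => KInjTransfer.exists_resolution.{v} (DerivedCategory.Q.objPreimage (M i))
  haveI := hK
  let e : ∀ i, DerivedCategory.Q.obj (I i) ≅ M i := fun i =>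
    haveI : IsIso (DerivedCategory.Q.map (s i)) := (DerivedCategory.isIso_Q_map_iff_quasiIso (C := A) _).2 (hs i)
    (asIso (DerivedCategory.Q.map (s i))).symm ≪≫ DerivedCategory.Q.objObjPreimageIso (M i)
  have hacy : ∀ n, Acy Q ((∐ I).X n) := fun n =>
    acy_of_iso Q (PreservesCoproduct.iso (HomologicalComplex.eval A (ComplexShape.up ℤ) n) I).symm
      (acy_coproduct Q (fun p => hsum p ι) (fun i => (I i).X n) fun i => haveI := hinj i n; acy_injective Q _)
  obtain ⟨J, t, hJ, ht, hJinj⟩ := KInjTransfer.exists_resolution.{v} (∐ I)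
  haveI := hJ
  haveI := ht
  haveI := hJinj
  refine bijective_of_resolution Q (hsum 0 ι) M I e t (cycExact_dim Q ((L17.GrothSS.quasiIso_iff_cone t).1 ht) ?_ d hd)
  exact fun n => acy_of_iso Q (HomologicalComplex.homotopyCofiber.XIsoBiprod t n (n + 1) rfl).symm
    (acy_biprod Q (hacy _) (acy_injective Q _))

end Groth.L10.HomSum
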